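import Mathlib
import Cfsg.Prelude.Def_Local
import Cfsg.Agent.Lib.TwoGen.Tools
import Cfsg.Agent.S3815

/-!
# The minimal simple setting for two-generated solvability: `O_{r'}` of centralisers
-/

set_option autoImplicit false
set_option linter.unusedSectionVars false
set_option linter.style.haveILetI false

namespace Cfsg.Agent.Lib.TwoGen.Setup

open Cfsg Cfsg.Agent.Lib.HallHigman.Layer Cfsg.Agent.Lib.Solvable.PSeries Cfsg.Agent.Lib.Basic.PCore
  Cfsg.Agent.Lib.TwoGen.NoMove Cfsg.Agent.Lib.TwoGen.ClaimA Cfsg.Agent.Lib.TwoGen.Tools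
open scoped commutatorElement

/-- A nonsolvable simple group all of whose proper subgroups and two-generated subgroups are
solvable. -/
structure Ctx (G : Type*) [Group G] [Finite G] : Prop where
  h2 : ∀ a b : G, Group.IsSolvable (Subgroup.closure ({a, b} : Set G))
  simple : IsSimpleGroup G
  nonsol : ¬ Group.IsSolvable G
  prop : ∀ H : Subgroup G, H ≠ ⊤ → Group.IsSolvable H

variable {G : Type*} [Group G] [Finite G]

theorem core_eq_bot (h : Ctx G) {r : ℕ} [hr : Fact r.Prime] (hrG : r ∣ Nat.card G) :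
    pPrimeCore r G = ⊥ := by
  haveI := h.simple
  rcases IsSimpleGroup.eq_bot_or_eq_top_of_normal _ (pPrimeCore_normal r G) with h1 | h1
  · exact h1
  · exfalso
    have h2 : (Nat.card (pPrimeCore r G)).Coprime r := pPrimeCore_coprime r
    rw [h1, Subgroup.card_top] at h2
    exact (Nat.Prime.coprime_iff_not_dvd hr.out).mp h2.symm hrG

theorem center_one (h : Ctx G) (x : G) (hx : ∀ g : G, g * x = x * g) : x = 1 := by
  haveI := h.simple
  have hxc : x ∈ Subgroup.center G := by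
    rw [Subgroup.mem_center_iff]; exact hx
  rcases IsSimpleGroup.eq_bot_or_eq_top_of_normal (Subgroup.center G) inferInstance with h1 | h1
  · rw [h1] at hxc; simpa using hxc
  · exfalso
    apply h.nonsol
    apply Group.isSolvable_of_comm
    intro a b
    have : b ∈ Subgroup.center G := by rw [h1]; trivial
    exact (Subgroup.mem_center_iff.mp this) a

theorem mem_zpowers_mul_of_coprime {x z : G} (hc : x * z = z * x)
    (ho : (orderOf x).Coprime (orderOf z)) :
    x ∈ Subgroup.zpowers (x * z) ∧ z ∈ Subgroup.zpowers (x * z) := by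
  have hcomm : Commute x z := hc
  have h1 : (x * z) ^ orderOf z = x ^ orderOf z := by
    rw [hcomm.mul_pow, pow_orderOf_eq_one, mul_one]
  obtain ⟨m, hm⟩ := exists_pow_eq_self_of_coprime ho.symm
  have hx : x ∈ Subgroup.zpowers (x * z) := by
    have h2 : x = ((x * z) ^ orderOf z) ^ m := by rw [h1, hm]
    have h3 : ((x * z) ^ orderOf z) ^ m ∈ Subgroup.zpowers (x * z) :=
      Subgroup.pow_mem _ (Subgroup.pow_mem _ (Subgroup.mem_zpowers _) _) _
    rwa [← h2] at h3
  refine ⟨hx, ?_⟩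
  have h4 : z = x⁻¹ * (x * z) := by group
  have h5 : x⁻¹ * (x * z) ∈ Subgroup.zpowers (x * z) :=
    Subgroup.mul_mem _ (Subgroup.inv_mem _ hx) (Subgroup.mem_zpowers _)
  rwa [← h4] at h5

theorem dvd_card_of_element {r : ℕ} [hr : Fact r.Prime] {z : G} (hz1 : z ≠ 1)
    (hz : ∃ k, z ^ r ^ k = 1) : r ∣ Nat.card G := by
  obtain ⟨k, hk⟩ := hz
  obtain ⟨i, -, hi⟩ := (Nat.dvd_prime_pow hr.out).mp (orderOf_dvd_of_pow_eq_one hk)
  have h0 : i ≠ 0 := by
    rintro rfl
    rw [pow_zero, orderOf_eq_one_iff] at hi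
    exact hz1 hi
  exact (dvd_pow_self r h0).trans (hi ▸ orderOf_dvd_natCard z)

/-- **(F1)** `O_{r'}(C_G(z)) = 1` for every nontrivial `r`-element `z`. -/
theorem F1 (h : Ctx G) {r : ℕ} [hr : Fact r.Prime] (z : G) (hz1 : z ≠ 1)
    (hz : ∃ k, z ^ r ^ k = 1) :
    pPrimeCore r ↥(Subgroup.centralizer ({z} : Set G)) = ⊥ := by
  classical
  set C := Subgroup.centralizer ({z} : Set G) with hC
  have hmemC : ∀ u : G, u ∈ C ↔ u * z = z * u := by
    intro u; rw [hC, Subgroup.mem_centralizer_singleton_iff]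
  set O := pPrimeCore r ↥C with hO
  have hOn : O.Normal := pPrimeCore_normal r _
  have hOc : (Nat.card O).Coprime r := pPrimeCore_coprime r
  have hrG : r ∣ Nat.card G := dvd_card_of_element hz1 hz
  rw [eq_bot_iff]
  intro x₀ hx₀
  rw [Subgroup.mem_bot]
  have hcore : pPrimeCore r G = ⊥ := core_eq_bot h hrG
  set x : G := (x₀ : G) with hx
  have hxz : x * z = z * x := (hmemC x).mp x₀.2
  have hxo : (orderOf x).Coprime r := by
    rw [hx, Subgroup.orderOf_coe]; exact orderOf_coprime_of_mem_core hx₀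
  obtain ⟨k, hk⟩ := hz
  have hzo : (orderOf x).Coprime (orderOf z) :=
    Nat.Coprime.coprime_dvd_right (orderOf_dvd_of_pow_eq_one hk) (Nat.Coprime.pow_right _ hxo)
  obtain ⟨hxm, hzm⟩ := mem_zpowers_mul_of_coprime hxz hzo
  have hmain : x ∈ pPrimeCore r G := by
    apply Cfsg.Agent.S3815.result x hxo
    intro g hg
    set D := Subgroup.closure ({x * z, g} : Set G) with hD
    haveI hDs : Group.IsSolvable D := h.h2 _ _
    have hxzD : x * z ∈ D := Subgroup.subset_closure (by simp)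
    have hgD : g ∈ D := Subgroup.subset_closure (by simp)
    have hxD : x ∈ D := (Subgroup.zpowers_le.mpr hxzD) hxm
    have hzD : z ∈ D := (Subgroup.zpowers_le.mpr hxzD) hzm
    set U : Subgroup ↥D := (O.map C.subtype).comap D.subtype with hU
    have hUc : (Nat.card U).Coprime r := by
      have h1 : Nat.card U ∣ Nat.card (O.map C.subtype) :=
        Subgroup.card_comap_dvd_of_injective _ _ D.subtype_injective
      rw [Subgroup.card_map_of_injective C.subtype_injective] at h1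
      exact Nat.Coprime.coprime_dvd_left h1 hOc
    have hle : U ≤ pPrimeCore r ↥D := by
      apply le_pPrimeCore_of_centralizer (⟨z, hzD⟩ : ↥D) ⟨k, Subtype.ext (by simpa using hk)⟩ U hUc
      · intro u hu
        obtain ⟨o, ho, hoe⟩ := hu
        apply Subtype.ext
        have h1 : (o : G) * z = z * o := (hmemC _).mp o.2
        have h2 : (o : G) = u := hoe
        show (u : G) * z = z * u
        rw [← h2]; exact h1
      · intro g₁ hg₁ u hu
        obtain ⟨o, ho, hoe⟩ := hu
        have hg₁' : (g₁ : G) * z = z * g₁ := by simpa using congrArg Subtype.val hg₁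
        have h2 : (o : G) = u := hoe
        refine ⟨(⟨(g₁ : G), (hmemC _).mpr hg₁'⟩ : ↥C) * o * (⟨(g₁ : G), (hmemC _).mpr hg₁'⟩ : ↥C)⁻¹,
          hOn.conj_mem _ ho _, ?_⟩
        simp [h2]
    have hx' : (⟨x, hxD⟩ : ↥D) ∈ U := ⟨x₀, hx₀, rfl⟩
    have h5 := orderOf_mul_coprime (hle hx') (g := (⟨g, hgD⟩ : ↥D))
      (by rw [Subgroup.orderOf_mk]; exact hg)
    have h6 : orderOf ((⟨x, hxD⟩ : ↥D) * ⟨g, hgD⟩) = orderOf (x * g) := by
      have := Subgroup.orderOf_coe ((⟨x, hxD⟩ : ↥D) * ⟨g, hgD⟩)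
      simpa using this.symm
    rwa [h6] at h5
  rw [hcore, Subgroup.mem_bot] at hmain
  exact Subtype.ext hmain

/-- The hypothesis `hB` of `core_step`, in the odd case. -/
theorem hB_of (h : Ctx G) {p r : ℕ} [hp : Fact p.Prime] [hr : Fact r.Prime] (hpr : p ≠ r)
    (hp2 : p ≠ 2) (hr2 : r ≠ 2)
    (y : G) (hy : orderOf y = p) (t₁ : G) (ht₁c : t₁ * y = y * t₁) (ht₁ : ∃ k, t₁ ^ p ^ k = 1)
    (b' : ℕ)
    (hx : ∀ x : G, x * y = y * x → (∃ k, x ^ p ^ k = 1) → x ^ p ^ (b' + 1) ∈ Subgroup.zpowers y) :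
    ∀ c : G, c * y = y * c → (orderOf ⁅c, t₁ ^ p ^ b'⁆).Coprime r := by
  classical
  have hy1 : y ≠ 1 := by
    rintro rfl
    rw [orderOf_one] at hy
    exact hp.out.one_lt.ne hy
  set C := Subgroup.centralizer ({y} : Set G) with hC
  have hmemC : ∀ u : G, u ∈ C ↔ u * y = y * u := by
    intro u; rw [hC, Subgroup.mem_centralizer_singleton_iff]
  have hCne : C ≠ ⊤ := by
    intro hCt
    apply hy1
    apply center_one h
    intro g
    have : g ∈ C := by rw [hCt]; trivial
    exact (hmemC g).mp this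
  haveI hCs : Group.IsSolvable C := h.prop C hCne
  let y' : C := ⟨y, (hmemC y).mpr rfl⟩
  set Z : Subgroup C := Subgroup.zpowers y' with hZ
  have hZc : ∀ z ∈ Z, ∀ x : C, z * x = x * z := by
    intro z hz x
    obtain ⟨i, rfl⟩ := Subgroup.mem_zpowers_iff.mp hz
    have h1 : Commute y' x := by
      apply Subtype.ext
      exact ((hmemC _).mp x.2).symm
    exact (h1.zpow_left i).eq
  haveI hZn : Z.Normal := by
    constructor
    intro n hn g
    have : g * n * g⁻¹ = n := by
      have := hZc n hn g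
      calc g * n * g⁻¹ = n * g * g⁻¹ := by rw [this]
        _ = n := by group
    rwa [this]
  have hy'o : orderOf y' = p ^ 1 := by
    rw [Subgroup.orderOf_mk, hy, pow_one]
  have hZp : IsPGroup p Z := isPGroup_zpowers hy'o
  have hcoreC : pPrimeCore p C = ⊥ :=
    F1 h y hy1 ⟨1, by rw [pow_one, ← hy, pow_orderOf_eq_one]⟩
  have hcoreK : pPrimeCore p (C ⧸ Z) = ⊥ := core_quot_central hcoreC Z hZp hZc
  let π : C →* C ⧸ Z := QuotientGroup.mk' Z
  have hπ : Function.Surjective π := QuotientGroup.mk'_surjective Z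
  have hexp : ∀ x : C ⧸ Z, (∃ k, x ^ p ^ k = 1) → x ^ p ^ (b' + 1) = 1 := by
    rintro xb ⟨k, hk⟩
    obtain ⟨x₀, rfl⟩ := hπ xb
    have h1 : x₀ ^ p ^ k ∈ Z := by
      apply (QuotientGroup.eq_one_iff _).mp
      rw [← map_pow] at hk
      exact hk
    obtain ⟨i, hi⟩ := Subgroup.mem_zpowers_iff.mp h1
    have h2 : (x₀ ^ p ^ k) ^ p = 1 := by
      rw [← hi, ← zpow_natCast, ← zpow_mul, mul_comm, zpow_mul, zpow_natCast]
      have : y' ^ p = 1 := by
        have := pow_orderOf_eq_one y'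
        rwa [hy'o, pow_one] at this
      rw [this, one_zpow]
    have h3 : (x₀ : G) ^ p ^ (k + 1) = 1 := by
      have h30 := congrArg Subtype.val h2
      rw [← pow_mul, ← pow_succ] at h30
      simpa using h30
    have h4 := hx x₀ ((hmemC _).mp x₀.2) ⟨k + 1, h3⟩
    rw [← map_pow]
    apply (QuotientGroup.eq_one_iff _).mpr
    obtain ⟨j, hj⟩ := Subgroup.mem_zpowers_iff.mp h4
    exact ⟨j, Subtype.ext (by simpa [y'] using hj)⟩
  intro c hc
  let t' : C := ⟨t₁, (hmemC _).mpr ht₁c⟩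
  let c' : C := ⟨c, (hmemC _).mpr hc⟩
  have ht' : ∃ k, (π t') ^ p ^ k = 1 := by
    obtain ⟨k, hk⟩ := ht₁
    refine ⟨k, ?_⟩
    rw [← map_pow]
    have : t' ^ p ^ k = 1 := Subtype.ext (by simpa [t'] using hk)
    rw [this, map_one]
  have hmem := top_mem_core hpr hcoreK b' hexp (π t') ht' (Or.inl ⟨hp2, hr2⟩)
  set vb := (π t') ^ p ^ b' with hvb
  have hcomm : ⁅π c', vb⁆ ∈ pPrimeCore r (C ⧸ Z) := by
    have hn := pPrimeCore_normal r (C ⧸ Z)
    rw [commutatorElement_def]
    exact (pPrimeCore r _).mul_mem (hn.conj_mem _ hmem _) ((pPrimeCore r _).inv_mem hmem)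
  have hco := orderOf_coprime_of_mem_core hcomm
  set e' : C := ⁅c', t' ^ p ^ b'⁆ with he'
  have hπe : π e' = ⁅π c', vb⁆ := by rw [he', map_commutatorElement, map_pow]
  set m := orderOf ⁅π c', vb⁆ with hm
  have h1 : e' ^ m ∈ Z := by
    apply (QuotientGroup.eq_one_iff _).mp
    show π (e' ^ m) = 1
    rw [map_pow, hπe, hm, pow_orderOf_eq_one]
  have h2 : e' ^ (m * p) = 1 := by
    obtain ⟨i, hi⟩ := Subgroup.mem_zpowers_iff.mp h1
    rw [pow_mul, ← hi, ← zpow_natCast, ← zpow_mul, mul_comm, zpow_mul, zpow_natCast]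
    have : y' ^ p = 1 := by
      have := pow_orderOf_eq_one y'
      rwa [hy'o, pow_one] at this
    rw [this, one_zpow]
  have h3 : orderOf e' ∣ m * p := orderOf_dvd_of_pow_eq_one h2
  have h4 : (orderOf e').Coprime r :=
    Nat.Coprime.coprime_dvd_left h3
      (Nat.Coprime.mul_left hco ((Nat.coprime_primes hp.out hr.out).mpr hpr))
  have h5 : orderOf (e' : G) = orderOf e' := Subgroup.orderOf_coe _
  have h6 : (e' : G) = ⁅c, t₁ ^ p ^ b'⁆ := by
    rw [he']
    simp [t', c', commutatorElement_def]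
  rw [← h6, h5]
  exact h4

end Cfsg.Agent.Lib.TwoGen.Setup
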