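import Mathlib
import Cfsg.Prelude.Def_Local
import Cfsg.Agent.Lib.TwoGen.Setup

/-!
# The final contradiction for two-generated solvability
-/

set_option autoImplicit false
set_option linter.unusedSectionVars false
set_option linter.style.haveILetI false

namespace Cfsg.Agent.Lib.TwoGen.Final

open Cfsg Cfsg.Agent.Lib.HallHigman.Layer Cfsg.Agent.Lib.Solvable.PSeries Cfsg.Agent.Lib.Basic.PCore
  Cfsg.Agent.Lib.TwoGen.NoMove Cfsg.Agent.Lib.TwoGen.ClaimA Cfsg.Agent.Lib.TwoGen.Tools
  Cfsg.Agent.Lib.TwoGen.Setup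
open scoped commutatorElement

variable {G : Type*} [Group G] [Finite G]

theorem final_contra (h : Ctx G) {p r : ℕ} [hp : Fact p.Prime] [hr : Fact r.Prime] (hpr : p ≠ r)
    (hrG : r ∣ Nat.card G) (b : ℕ)
    (hexp : ∀ x : G, (∃ k, x ^ p ^ k = 1) → x ^ p ^ (b + 1) = 1)
    (t : G) (ht : ∃ k, t ^ p ^ k = 1) (hv : orderOf (t ^ p ^ b) = p)
    (ζ : G) (hζ : orderOf ζ = p) (hc : t ^ p ^ b * ζ = ζ * t ^ p ^ b)
    (hζv : ζ ∉ Subgroup.zpowers (t ^ p ^ b))
    (hexc : (p ≠ 2 ∧ r ≠ 2) ∨ ∀ R : Subgroup G, IsPGroup r R → IsMulCommutative R)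
    (hB : ∀ y ∈ Subgroup.closure ({t ^ p ^ b, ζ} : Set G), y ∉ Subgroup.zpowers (t ^ p ^ b) →
      ∀ c : G, c * y = y * c → (orderOf ⁅c, t ^ p ^ b⁆).Coprime r) : False := by
  classical
  set v := t ^ p ^ b with hvdef
  have hvo : (orderOf v).Coprime r := by
    rw [hv]; exact (Nat.coprime_primes hp.out hr.out).mpr hpr
  -- Step A
  have stepA : ∀ a : G, a ∈ Subgroup.closure ({v, a * v * a⁻¹} : Set G) →
      (Nat.card (Subgroup.closure ({v, a * v * a⁻¹} : Set G))).Coprime r := by
    intro a haT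
    set T := Subgroup.closure ({v, a * v * a⁻¹} : Set G) with hT
    set Kp := Subgroup.closure ({t, a * ζ} : Set G) with hKp
    haveI hKs : Group.IsSolvable Kp := h.h2 _ _
    have htK : t ∈ Kp := Subgroup.subset_closure (by simp)
    have haζK : a * ζ ∈ Kp := Subgroup.subset_closure (by simp)
    have hvK : v ∈ Kp := Kp.pow_mem htK _
    have hava : a * v * a⁻¹ ∈ Kp := by
      have h1 : ζ * v * ζ⁻¹ = v := by rw [← hc]; group
      have h2 : a * v * a⁻¹ = (a * ζ) * v * (a * ζ)⁻¹ := by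
        calc a * v * a⁻¹ = a * (ζ * v * ζ⁻¹) * a⁻¹ := by rw [h1]
          _ = (a * ζ) * v * (a * ζ)⁻¹ := by group
      rw [h2]
      exact Kp.mul_mem (Kp.mul_mem haζK hvK) (Kp.inv_mem haζK)
    have hTK : T ≤ Kp := by
      rw [hT, Subgroup.closure_le]
      intro x hx
      simp only [Set.mem_insert_iff, Set.mem_singleton_iff] at hx
      rcases hx with rfl | rfl
      · exact hvK
      · exact hava
    have haK : a ∈ Kp := hTK haT
    have hζK : ζ ∈ Kp := by
      have h1 : ζ = a⁻¹ * (a * ζ) := by group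
      rw [h1]
      exact Kp.mul_mem (Kp.inv_mem haK) haζK
    let t' : ↥Kp := ⟨t, htK⟩
    let ζ' : ↥Kp := ⟨ζ, hζK⟩
    let a' : ↥Kp := ⟨a, haK⟩
    have hexp' : ∀ x : ↥Kp, (∃ k, x ^ p ^ k = 1) → x ^ p ^ (b + 1) = 1 := by
      rintro x ⟨k, hk⟩
      apply Subtype.ext
      have h1 := hexp x ⟨k, by simpa using congrArg Subtype.val hk⟩
      simpa using h1
    have ht' : ∃ k, t' ^ p ^ k = 1 := by
      obtain ⟨k, hk⟩ := ht
      exact ⟨k, Subtype.ext (by simpa [t'] using hk)⟩
    have hexc' : (p ≠ 2 ∧ r ≠ 2) ∨ ∀ R : Subgroup ↥Kp, IsPGroup r R → IsMulCommutative R := by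
      rcases hexc with h1 | h1
      · exact Or.inl h1
      · right
        intro R hR
        have h2 := h1 (R.map Kp.subtype) (hR.map Kp.subtype)
        refine ⟨⟨?_⟩⟩
        rintro x y
        apply Subtype.ext
        apply Subtype.ext
        have h3 := congrArg Subtype.val (h2.is_comm.comm
          ⟨(x : ↥Kp), ⟨x, x.2, rfl⟩⟩ ⟨(y : ↥Kp), ⟨y, y.2, rfl⟩⟩)
        simpa using h3
    have hA := claim_A hpr b hexp' t' ht' hexc'
    have hv'c : ((t' ^ p ^ b : ↥Kp) : G) = v := by simp [t', hvdef]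
    set v' : ↥Kp := t' ^ p ^ b with hv'
    have hv'o : orderOf v' = p := by
      rw [← Subgroup.orderOf_coe, hv'c]; exact hv
    have hζ'o : orderOf ζ' = p := by
      rw [Subgroup.orderOf_mk]; exact hζ
    have hc' : v' * ζ' = ζ' * v' := by
      apply Subtype.ext
      simp only [Subgroup.coe_mul, hv'c]
      exact hc
    have hζv' : ζ' ∉ Subgroup.zpowers v' := by
      intro hm
      apply hζv
      obtain ⟨i, hi⟩ := Subgroup.mem_zpowers_iff.mp hm
      refine Subgroup.mem_zpowers_iff.mpr ⟨i, ?_⟩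
      have h1 := congrArg Subtype.val hi
      simp only [Subgroup.coe_zpow, hv'c] at h1
      exact h1
    have hB' : ∀ y ∈ Subgroup.closure ({v', ζ'} : Set ↥Kp), y ∉ Subgroup.zpowers v' →
        ∀ c : ↥Kp, c * y = y * c → (orderOf ⁅c, v'⁆).Coprime r := by
      intro y hy hyv c hcy
      have h1 : (y : G) ∈ Subgroup.closure ({v, ζ} : Set G) := by
        have hle : Subgroup.closure ({v', ζ'} : Set ↥Kp) ≤
            (Subgroup.closure ({v, ζ} : Set G)).comap Kp.subtype := by
          rw [Subgroup.closure_le]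
          intro x hx
          simp only [Set.mem_insert_iff, Set.mem_singleton_iff] at hx
          rcases hx with rfl | rfl
          · show ((v' : ↥Kp) : G) ∈ Subgroup.closure ({v, ζ} : Set G)
            rw [hv'c]
            exact Subgroup.subset_closure (by simp)
          · exact Subgroup.subset_closure (by simp [ζ'])
        exact hle hy
      have h2 : (y : G) ∉ Subgroup.zpowers v := by
        intro hm
        obtain ⟨i, hi⟩ := Subgroup.mem_zpowers_iff.mp hm
        apply hyv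
        refine Subgroup.mem_zpowers_iff.mpr ⟨i, Subtype.ext ?_⟩
        simp only [Subgroup.coe_zpow, hv'c]
        exact hi
      have h3 := hB y h1 h2 c (by simpa using congrArg Subtype.val hcy)
      have h4 : orderOf ⁅c, v'⁆ = orderOf ⁅(c : G), v⁆ := by
        rw [← Subgroup.orderOf_coe]
        congr 1
      rwa [h4]
    have hcore := core_step hpr hv'o hζ'o hc' hζv' hA hB'
    have hT' : T ≤ (pPrimeCore r ↥Kp).map Kp.subtype := by
      rw [hT, Subgroup.closure_le]
      intro x hx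
      simp only [Set.mem_insert_iff, Set.mem_singleton_iff] at hx
      rcases hx with rfl | rfl
      · exact ⟨v', hcore, hv'c⟩
      · refine ⟨a' * v' * a'⁻¹, (pPrimeCore_normal r _).conj_mem _ hcore _, ?_⟩
        simp only [Subgroup.subtype_apply, Subgroup.coe_mul, Subgroup.coe_inv, hv'c]
        rfl
    have hcard : Nat.card T ∣ Nat.card (pPrimeCore r ↥Kp) := by
      have h3 := Subgroup.card_dvd_of_le hT'
      rwa [Subgroup.card_map_of_injective Kp.subtype_injective] at h3
    exact Nat.Coprime.coprime_dvd_left hcard (pPrimeCore_coprime r)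
  -- Step B
  let C : Set G := {w | ∃ g : G, w = g * v * g⁻¹}
  have hCconj : ∀ w ∈ C, ∀ g : G, g * w * g⁻¹ ∈ C := by
    rintro w ⟨g₀, rfl⟩ g
    exact ⟨g * g₀, by group⟩
  have hCr : ∀ w ∈ C, (orderOf w).Coprime r := by
    rintro w ⟨g₀, rfl⟩
    have h1 : orderOf (g₀ * v * g₀⁻¹) = orderOf v := by
      have := MulEquiv.orderOf_eq (MulAut.conj g₀) v
      simpa [MulAut.conj_apply] using this
    rw [h1]
    exact hvo
  have hCA : ∀ w ∈ C, ∀ a : G, a ∈ Subgroup.closure ({w, a * w * a⁻¹} : Set G) →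
      (Nat.card (Subgroup.closure ({w, a * w * a⁻¹} : Set G))).Coprime r := by
    rintro w ⟨g, rfl⟩ a ha
    set a₁ := g⁻¹ * a * g with ha₁
    let φ : G ≃* G := MulAut.conj g
    have hφ : ∀ x, φ x = g * x * g⁻¹ := fun x => by simp [φ, MulAut.conj_apply]
    have hmap : (Subgroup.closure ({v, a₁ * v * a₁⁻¹} : Set G)).map φ.toMonoidHom =
        Subgroup.closure ({g * v * g⁻¹, a * (g * v * g⁻¹) * a⁻¹} : Set G) := by
      rw [MonoidHom.map_closure, Set.image_pair]
      have e1 : φ.toMonoidHom v = g * v * g⁻¹ := hφ v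
      have e2 : φ.toMonoidHom (a₁ * v * a₁⁻¹) = a * (g * v * g⁻¹) * a⁻¹ := by
        show φ _ = _
        rw [hφ, ha₁]
        group
      rw [e1, e2]
    rw [← hmap] at ha ⊢
    rw [Subgroup.card_map_of_injective φ.injective]
    apply stepA
    obtain ⟨x, hx, hxe⟩ := ha
    have h1 : x = a₁ := by
      have h2 : φ x = a := hxe
      rw [hφ] at h2
      rw [ha₁, ← h2]
      group
    rw [h1] at hx
    exact hx
  have hL := lemma_L C hCconj hCr hCA
  have hvmem : v ∈ pPrimeCore r G := by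
    apply Cfsg.Agent.S3815.result v hvo
    intro g hg
    set D := Subgroup.closure ({v, g} : Set G) with hD
    haveI hDs : Group.IsSolvable D := h.h2 v g
    have hvD : v ∈ D := Subgroup.subset_closure (by simp)
    have hgD : g ∈ D := Subgroup.subset_closure (by simp)
    have h1 := hL D hDs v ⟨1, by simp⟩ hvD
    have h2 := orderOf_mul_coprime h1 (g := (⟨g, hgD⟩ : ↥D))
      (by rw [Subgroup.orderOf_mk]; exact hg)
    have h3 : orderOf ((⟨v, hvD⟩ : ↥D) * ⟨g, hgD⟩) = orderOf (v * g) := by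
      have := Subgroup.orderOf_coe ((⟨v, hvD⟩ : ↥D) * ⟨g, hgD⟩)
      simpa using this.symm
    rwa [h3] at h2
  rw [core_eq_bot h hrG, Subgroup.mem_bot] at hvmem
  rw [hvmem, orderOf_one] at hv
  exact hp.out.one_lt.ne hv

end Cfsg.Agent.Lib.TwoGen.Final
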