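import Mathlib
import Cfsg.Prelude.Def_Local
import Cfsg.Agent.Lib.TwoGen.Final
import Cfsg.Agent.Lib.PGroup.NormalRank
import Cfsg.Agent.Lib.PGroup.Basic

/-!
# Two-generated solvability: the case of a noncyclic odd Sylow subgroup
-/

set_option autoImplicit false
set_option linter.unusedSectionVars false
set_option linter.style.haveILetI false

namespace Cfsg.Agent.Lib.TwoGen.Beta

open Cfsg Cfsg.Agent.Lib.HallHigman.Layer Cfsg.Agent.Lib.Solvable.PSeries Cfsg.Agent.Lib.Basic.PCore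
  Cfsg.Agent.Lib.TwoGen.NoMove Cfsg.Agent.Lib.TwoGen.ClaimA Cfsg.Agent.Lib.TwoGen.Tools
  Cfsg.Agent.Lib.TwoGen.Setup Cfsg.Agent.Lib.TwoGen.Final
open scoped commutatorElement

variable {G : Type*} [Group G] [Finite G]

theorem exists_top {p : ℕ} [hp : Fact p.Prime] (hpG : p ∣ Nat.card G) :
    ∃ (t : G) (b : ℕ), orderOf t = p ^ (b + 1) ∧
      ∀ x : G, (∃ k, x ^ p ^ k = 1) → x ^ p ^ (b + 1) = 1 := by
  classical
  obtain ⟨x₀, hx₀⟩ := exists_prime_orderOf_dvd_card' p hpG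
  let X := {x : G // ∃ k, x ^ p ^ k = 1}
  have hx₀p : x₀ ^ p ^ 1 = 1 := by rw [pow_one, ← hx₀, pow_orderOf_eq_one]
  haveI : Nonempty X := ⟨⟨x₀, 1, hx₀p⟩⟩
  obtain ⟨⟨t, k, hk⟩, ht⟩ := Finite.exists_max (fun x : X => orderOf x.1)
  obtain ⟨m, -, hm⟩ := (Nat.dvd_prime_pow hp.out).mp (orderOf_dvd_of_pow_eq_one hk)
  have hm0 : m ≠ 0 := by
    rintro rfl
    have h1 := ht ⟨x₀, 1, hx₀p⟩
    simp only [hm, hx₀, pow_zero] at h1
    have := hp.out.one_lt
    omega
  obtain ⟨b, rfl⟩ : ∃ b, m = b + 1 := ⟨m - 1, by omega⟩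
  refine ⟨t, b, hm, ?_⟩
  rintro x ⟨j, hj⟩
  obtain ⟨i, -, hi⟩ := (Nat.dvd_prime_pow hp.out).mp (orderOf_dvd_of_pow_eq_one hj)
  have h1 := ht ⟨x, j, hj⟩
  have h2 : i ≤ b + 1 := by
    apply (Nat.pow_le_pow_iff_right hp.out.one_lt).mp
    rw [← hi, ← hm]
    exact h1
  have h3 : orderOf x ∣ p ^ (b + 1) := hi ▸ pow_dvd_pow p h2
  exact orderOf_dvd_iff_pow_eq_one.mp h3

theorem exists_form {u w : G} (huw : Commute u w) {y : G} (hy : y ∈ Subgroup.closure ({u, w} : Set G)) :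
    ∃ i j : ℤ, y = u ^ i * w ^ j := by
  induction hy using Subgroup.closure_induction with
  | mem x hx =>
    simp only [Set.mem_insert_iff, Set.mem_singleton_iff] at hx
    rcases hx with rfl | rfl
    · exact ⟨1, 0, by simp⟩
    · exact ⟨0, 1, by simp⟩
  | one => exact ⟨0, 0, by simp⟩
  | mul x y _ _ hx hy =>
    obtain ⟨i, j, rfl⟩ := hx
    obtain ⟨i', j', rfl⟩ := hy
    refine ⟨i + i', j + j', ?_⟩
    have h1 : Commute (w ^ j) (u ^ i') := huw.symm.zpow_zpow j i'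
    rw [zpow_add, zpow_add]
    calc u ^ i * w ^ j * (u ^ i' * w ^ j') = u ^ i * (w ^ j * u ^ i') * w ^ j' := by group
      _ = u ^ i * (u ^ i' * w ^ j) * w ^ j' := by rw [h1.eq]
      _ = _ := by group
  | inv x _ hx =>
    obtain ⟨i, j, rfl⟩ := hx
    refine ⟨-i, -j, ?_⟩
    rw [mul_inv_rev, zpow_neg, zpow_neg]
    have h1 : Commute (w ^ j)⁻¹ (u ^ i)⁻¹ := (huw.symm.zpow_zpow j i).inv_inv
    exact h1.eq

theorem pow_eq_one_of_form {p : ℕ} {u w y : G} (huw : Commute u w) (hu : u ^ p = 1) (hw : w ^ p = 1)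
    (hy : y ∈ Subgroup.closure ({u, w} : Set G)) : y ^ p = 1 := by
  obtain ⟨i, j, rfl⟩ := exists_form huw hy
  rw [(huw.zpow_zpow i j).mul_pow, ← zpow_natCast, ← zpow_natCast, ← zpow_mul, ← zpow_mul, mul_comm i,
    mul_comm j, zpow_mul, zpow_mul, zpow_natCast, zpow_natCast, hu, hw, one_zpow, one_zpow, one_mul]

theorem commute_of_form {u w y x : G} (huw : Commute u w) (hu : x * u = u * x) (hw : x * w = w * x)
    (hy : y ∈ Subgroup.closure ({u, w} : Set G)) : x * y = y * x := by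
  obtain ⟨i, j, rfl⟩ := exists_form huw hy
  have h1 : Commute x u := hu
  have h2 : Commute x w := hw
  exact ((h1.zpow_right i).mul_right (h2.zpow_right j)).eq

/-- The case of a non-cyclic Sylow subgroup for an odd prime `p`. -/
theorem caseBeta (h : Ctx G) {p r : ℕ} [hp : Fact p.Prime] [hr : Fact r.Prime] (hpr : p ≠ r)
    (hp2 : p ≠ 2) (hr2 : r ≠ 2) (hrG : r ∣ Nat.card G) (hpG : p ∣ Nat.card G)
    (hnc : ∀ P : Sylow p G, ¬ IsCyclic P) : False := by
  classical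
  obtain ⟨t, b, hto, hexp⟩ := exists_top (G := G) hpG
  have hpexp : ∀ x : G, orderOf x = p ^ (b + 1) → ∃ k, x ^ p ^ k = 1 :=
    fun x hx => ⟨b + 1, by rw [← hx, pow_orderOf_eq_one]⟩
  have hvorder : ∀ x : G, orderOf x = p ^ (b + 1) → orderOf (x ^ p ^ b) = p := by
    intro x hx
    rw [orderOf_pow_of_dvd (pow_ne_zero _ hp.out.ne_zero) ⟨p, by rw [hx, pow_succ]⟩, hx, pow_succ,
      Nat.mul_div_cancel_left _ (pow_pos hp.out.pos _)]
  by_cases hGood : ∃ t' ζ : G, orderOf t' = p ^ (b + 1) ∧ orderOf ζ = p ∧ t' * ζ = ζ * t' ∧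
      ζ ∉ Subgroup.zpowers t'
  · obtain ⟨t', ζ, ht', hζ, hc, hζt⟩ := hGood
    have hvc : t' ^ p ^ b * ζ = ζ * t' ^ p ^ b := ((Commute.pow_left hc _).eq)
    have hζv : ζ ∉ Subgroup.zpowers (t' ^ p ^ b) := fun hm =>
      hζt (Subgroup.zpowers_le.mpr (Subgroup.pow_mem _ (Subgroup.mem_zpowers t') _) hm)
    refine final_contra h hpr hrG b hexp t' (hpexp _ ht') (hvorder _ ht') ζ hζ hvc hζv
      (Or.inl ⟨hp2, hr2⟩) ?_
    intro y hy hyv c hcy
    have hvp : (t' ^ p ^ b) ^ p = 1 := by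
      have h0 := pow_orderOf_eq_one (t' ^ p ^ b)
      rwa [hvorder _ ht'] at h0
    have hζp : ζ ^ p = 1 := by rw [← hζ, pow_orderOf_eq_one]
    have hyp : y ^ p = 1 := pow_eq_one_of_form hvc hvp hζp hy
    have hy1 : y ≠ 1 := fun h0 => hyv (h0 ▸ Subgroup.one_mem _)
    have hyo : orderOf y = p := orderOf_eq_prime hyp hy1
    have hty : t' * y = y * t' :=
      commute_of_form hvc ((Commute.pow_right (Commute.refl t') _).eq) hc hy
    exact hB_of h hpr hp2 hr2 y hyo t' hty (hpexp _ ht') b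
      (fun x _ hxp => by rw [hexp x hxp]; exact Subgroup.one_mem _) c hcy
  · push Not at hGood
    have hBad := hGood
    obtain ⟨S, hS⟩ : ∃ S : Sylow p G, Subgroup.zpowers t ≤ S :=
      IsPGroup.exists_le_sylow (isPGroup_zpowers hto)
    have htS : t ∈ (S : Subgroup G) := hS (Subgroup.mem_zpowers t)
    have hnS := hnc S
    set P : Subgroup G := (S : Subgroup G) with hP
    have hPp : IsPGroup p ↥P := S.isPGroup'
    have hnc' : ¬ IsCyclic ↥(⊤ : Subgroup ↥P) := by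
      intro hc
      apply hnS
      exact isCyclic_of_surjective (Subgroup.topEquiv (G := ↥P)).toMonoidHom
        (Subgroup.topEquiv (G := ↥P)).surjective
    obtain ⟨A, -, hAn, ⟨hAc, hAe⟩, hAcard⟩ :=
      Cfsg.Agent.Lib.PGroup.NormalRank.exists_normal_rank_two hp2 hPp (⊤ : Subgroup ↥P) hnc'
    haveI := hAn
    have hAne : A ≠ ⊥ := by
      rintro rfl
      rw [Subgroup.card_bot] at hAcard
      have h1 : 1 < p ^ 2 := Nat.one_lt_pow two_ne_zero hp.out.one_lt
      omega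
    have h1 := Cfsg.Agent.Lib.PGroup.Basic.inf_center_ne_bot hPp (N := A) hAne
    rcases Subgroup.bot_or_exists_ne_one (A ⊓ Subgroup.center ↥P) with h2 | ⟨ζ₀, hζ₀, hζ₀1⟩
    · exact absurd h2 h1
    obtain ⟨hζ₀A, hζ₀c⟩ := Subgroup.mem_inf.mp hζ₀
    have hζ₀o : orderOf (ζ₀ : G) = p := by
      apply orderOf_eq_prime
      · have := hAe ζ₀ hζ₀A
        simpa using congrArg Subtype.val this
      · exact fun h => hζ₀1 (Subtype.ext h)
    let t' : ↥P := ⟨t, htS⟩
    have hcζ₀ : t * (ζ₀ : G) = ζ₀ * t := by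
      have := (Subgroup.mem_center_iff.mp hζ₀c) t'
      simpa using congrArg Subtype.val this
    have hm₀ := hBad t ζ₀ hto hζ₀o hcζ₀
    have hv₀ := top_pow_mem_zpowers hto hm₀ (fun h => hζ₀1 (Subtype.ext h))
    obtain ⟨i₀, hi₀⟩ := Subgroup.mem_zpowers_iff.mp hv₀
    set v' : ↥P := ζ₀ ^ i₀ with hv'
    have hv'c : (v' : G) = t ^ p ^ b := by simpa [hv'] using hi₀
    have hv'central : ∀ x : ↥P, x * v' = v' * x := by
      intro x
      have h3 : Commute x ζ₀ := (Subgroup.mem_center_iff.mp hζ₀c) x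
      exact (h3.zpow_right i₀).eq
    set V : Subgroup ↥P := Subgroup.zpowers v' with hV
    have hVc : ∀ w ∈ V, ∀ x : ↥P, x * w = w * x := by
      intro w hw x
      obtain ⟨i, rfl⟩ := Subgroup.mem_zpowers_iff.mp hw
      have h3 : Commute x v' := hv'central x
      exact (h3.zpow_right i).eq
    haveI hVn : V.Normal := by
      constructor
      intro n hn g
      have h3 : g * n * g⁻¹ = n := by
        rw [hVc n hn g]
        group
      rwa [h3]
    have hv'o : orderOf v' = p := by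
      rw [← Subgroup.orderOf_coe, hv'c]
      exact hvorder t hto
    have hVcard : Nat.card V = p := by rw [Nat.card_zpowers, hv'o]
    let π : ↥P →* ↥P ⧸ V := QuotientGroup.mk' V
    have hπs : Function.Surjective π := QuotientGroup.mk'_surjective V
    set Ab : Subgroup (↥P ⧸ V) := A.map π with hAb
    haveI hAbn : Ab.Normal := Subgroup.Normal.map hAn π hπs
    have hAbne : Ab ≠ ⊥ := by
      intro h0
      have h5 : A ≤ V := by
        intro x hx
        have h6 : π x ∈ Ab := ⟨x, hx, rfl⟩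
        rw [h0, Subgroup.mem_bot] at h6
        exact (QuotientGroup.eq_one_iff x).mp h6
      have h6 := Subgroup.card_dvd_of_le h5
      rw [hAcard, hVcard] at h6
      have h7 := Nat.le_of_dvd hp.out.pos h6
      nlinarith [hp.out.two_le]
    have hQp : IsPGroup p (↥P ⧸ V) := hPp.to_quotient V
    have h7 := Cfsg.Agent.Lib.PGroup.Basic.inf_center_ne_bot hQp (N := Ab) hAbne
    rcases Subgroup.bot_or_exists_ne_one (Ab ⊓ Subgroup.center _) with h8 | ⟨ρ, hρ, hρ1⟩
    · exact absurd h8 h7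
    obtain ⟨⟨ζ₁, hζ₁A, rfl⟩, hρc⟩ := Subgroup.mem_inf.mp hρ
    have hζ₁V : ζ₁ ∉ V := fun hm => hρ1 ((QuotientGroup.eq_one_iff ζ₁).mpr hm)
    have hζ₁1 : ζ₁ ≠ 1 := fun hh => hζ₁V (hh ▸ V.one_mem)
    have hζo : orderOf (ζ₁ : G) = p := by
      apply orderOf_eq_prime
      · have := hAe ζ₁ hζ₁A
        simpa using congrArg Subtype.val this
      · exact fun h => hζ₁1 (Subtype.ext h)
    have hcomm1 : π t' * π ζ₁ = π ζ₁ * π t' := (Subgroup.mem_center_iff.mp hρc) (π t')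
    set w : ↥P := t' * ζ₁ * t'⁻¹ * ζ₁⁻¹ with hw
    have hwV : w ∈ V := by
      apply (QuotientGroup.eq_one_iff w).mp
      show π w = 1
      simp only [hw, map_mul, map_inv]
      rw [hcomm1]
      group
    have hwp : w ^ p = 1 := by
      obtain ⟨j, hj⟩ := Subgroup.mem_zpowers_iff.mp hwV
      rw [← hj, ← zpow_natCast, ← zpow_mul, mul_comm, zpow_mul, zpow_natCast]
      have h3 : v' ^ p = 1 := by
        have := pow_orderOf_eq_one v'
        rwa [hv'o] at this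
      rw [h3, one_zpow]
    have hconj : ∀ n : ℕ, t' ^ n * ζ₁ * (t' ^ n)⁻¹ = w ^ n * ζ₁ := by
      intro n
      induction n with
      | zero => simp
      | succ n ih =>
        have h5 : t' * ζ₁ * t'⁻¹ = w * ζ₁ := by rw [hw]; group
        have h6 : t' * w ^ n = w ^ n * t' := (Commute.pow_right (hVc w hwV t') n).eq
        calc t' ^ (n + 1) * ζ₁ * (t' ^ (n + 1))⁻¹ = t' * (t' ^ n * ζ₁ * (t' ^ n)⁻¹) * t'⁻¹ := by
              rw [pow_succ']; group
          _ = t' * (w ^ n * ζ₁) * t'⁻¹ := by rw [ih]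
          _ = (t' * w ^ n) * ζ₁ * t'⁻¹ := by group
          _ = w ^ n * t' * ζ₁ * t'⁻¹ := by rw [h6]
          _ = w ^ n * (t' * ζ₁ * t'⁻¹) := by group
          _ = w ^ n * (w * ζ₁) := by rw [h5]
          _ = w ^ (n + 1) * ζ₁ := by rw [pow_succ]; group
    have ht₁ζ : t' ^ p * ζ₁ = ζ₁ * t' ^ p := by
      have h3 := hconj p
      rw [hwp, one_mul] at h3
      calc t' ^ p * ζ₁ = (t' ^ p * ζ₁ * (t' ^ p)⁻¹) * t' ^ p := by group
        _ = ζ₁ * t' ^ p := by rw [h3]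
    have hvζ : t ^ p ^ b * (ζ₁ : G) = ζ₁ * t ^ p ^ b := by
      have h3 := congrArg Subtype.val (hv'central ζ₁)
      simp only [Subgroup.coe_mul, hv'c] at h3
      exact h3.symm
    have hζv : (ζ₁ : G) ∉ Subgroup.zpowers (t ^ p ^ b) := by
      intro hm
      apply hζ₁V
      obtain ⟨j, hj⟩ := Subgroup.mem_zpowers_iff.mp hm
      refine Subgroup.mem_zpowers_iff.mpr ⟨j, Subtype.ext ?_⟩
      simp only [Subgroup.coe_zpow, hv'c]
      exact hj
    have ht₁ζG : t ^ p * (ζ₁ : G) = ζ₁ * t ^ p := by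
      have h3 := congrArg Subtype.val ht₁ζ
      simpa [t'] using h3
    have hb : b ≠ 0 := by
      intro hb0
      have e1 : t ^ p ^ b = t := by rw [hb0]; simp
      rw [e1] at hvζ hζv
      exact hζv (hBad t ζ₁ hto hζo hvζ)
    obtain ⟨b', hb'⟩ : ∃ b', b = b' + 1 := ⟨b - 1, by omega⟩
    have hvt : (t ^ p) ^ p ^ b' = t ^ p ^ b := by
      rw [← pow_mul, ← pow_succ', hb']
    refine final_contra h hpr hrG b hexp t (hpexp _ hto) (hvorder t hto) ζ₁ hζo hvζ hζv
      (Or.inl ⟨hp2, hr2⟩) ?_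
    intro y hy hyv c hcy
    have hvp : (t ^ p ^ b) ^ p = 1 := by
      have h0 := pow_orderOf_eq_one (t ^ p ^ b)
      rwa [hvorder _ hto] at h0
    have hζp : (ζ₁ : G) ^ p = 1 := by rw [← hζo, pow_orderOf_eq_one]
    have hyp : y ^ p = 1 := pow_eq_one_of_form hvζ hvp hζp hy
    have hy1 : y ≠ 1 := fun h0 => hyv (h0 ▸ Subgroup.one_mem _)
    have hyo : orderOf y = p := orderOf_eq_prime hyp hy1
    have hty : t ^ p * y = y * t ^ p := by
      apply commute_of_form hvζ _ ht₁ζG hy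
      exact ((Commute.refl t).pow_pow p (p ^ b)).eq
    have ht₁p : ∃ k, (t ^ p) ^ p ^ k = 1 := by
      refine ⟨b + 1, ?_⟩
      rw [← pow_mul, mul_comm, pow_mul, ← hto, pow_orderOf_eq_one, one_pow]
    have hfin := hB_of h hpr hp2 hr2 y hyo (t ^ p) hty ht₁p b' ?_ c hcy
    · rwa [hvt] at hfin
    · intro x hxy hxp
      rw [← hb']
      by_cases hxo : orderOf x = p ^ (b + 1)
      · have h3 := hBad x y hxo hyo hxy
        exact top_pow_mem_zpowers hxo h3 hy1
      · obtain ⟨k, hk⟩ := hxp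
        obtain ⟨i, -, hi⟩ := (Nat.dvd_prime_pow hp.out).mp (orderOf_dvd_of_pow_eq_one hk)
        have h3 := hexp x ⟨k, hk⟩
        obtain ⟨i', -, hi'⟩ := (Nat.dvd_prime_pow hp.out).mp (orderOf_dvd_of_pow_eq_one h3)
        have h4 : i' ≠ b + 1 := fun h5 => hxo (by rw [hi', h5])
        have h5 : i' ≤ b := by
          have h6 : orderOf x ∣ p ^ (b + 1) := orderOf_dvd_of_pow_eq_one h3
          rw [hi'] at h6
          have h7 := (Nat.pow_dvd_pow_iff_le_right hp.out.one_lt).mp h6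
          omega
        have h6 : orderOf x ∣ p ^ b := by
          rw [hi']
          exact pow_dvd_pow p h5
        have h7 : x ^ p ^ b = 1 := orderOf_dvd_iff_pow_eq_one.mp h6
        rw [h7]
        exact Subgroup.one_mem _

end Cfsg.Agent.Lib.TwoGen.Beta
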