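import Mathlib
import Cfsg.Prelude.Def_Local
import Cfsg.Agent.Lib.TwoGen.Beta
import Cfsg.Agent.S0215

/-!
# Two-generated solvability: the case when all odd Sylow subgroups are cyclic
-/

set_option autoImplicit false
set_option linter.unusedSectionVars false
set_option linter.style.haveILetI false

namespace Cfsg.Agent.Lib.TwoGen.Alpha

open Cfsg Cfsg.Agent.Lib.HallHigman.Layer Cfsg.Agent.Lib.Solvable.PSeries Cfsg.Agent.Lib.Basic.PCore
  Cfsg.Agent.Lib.TwoGen.NoMove Cfsg.Agent.Lib.TwoGen.ClaimA Cfsg.Agent.Lib.TwoGen.Tools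
  Cfsg.Agent.Lib.TwoGen.Setup Cfsg.Agent.Lib.TwoGen.Final Cfsg.Agent.Lib.TwoGen.Beta
open scoped commutatorElement

variable {G : Type*} [Group G] [Finite G]

/-- With cyclic `r`-subgroups, the centraliser of an involution is an `r'`-group. -/
theorem no_r_centralizer (h : Ctx G) {r : ℕ} [hr : Fact r.Prime] (hr2 : r ≠ 2)
    (hcyc : ∀ R : Subgroup G, IsPGroup r R → IsCyclic R)
    (y : G) (hy1 : y ≠ 1) (hy2 : y ^ 2 = 1) :
    ¬ r ∣ Nat.card (Subgroup.centralizer ({y} : Set G)) := by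
  classical
  intro hrd
  obtain ⟨ρ₀, hρ₀⟩ := exists_prime_orderOf_dvd_card' r hrd
  set ρ : G := (ρ₀ : G) with hρ
  have hρo : orderOf ρ = r := by rw [hρ, Subgroup.orderOf_coe]; exact hρ₀
  have hρ1 : ρ ≠ 1 := by
    intro h0
    rw [h0, orderOf_one] at hρo
    exact hr.out.one_lt.ne hρo
  have hyρ : y * ρ = ρ * y := (Subgroup.mem_centralizer_singleton_iff.mp ρ₀.2).symm
  set C := Subgroup.centralizer ({ρ} : Set G) with hC
  have hmemC : ∀ u : G, u ∈ C ↔ u * ρ = ρ * u := by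
    intro u; rw [hC, Subgroup.mem_centralizer_singleton_iff]
  have hCne : C ≠ ⊤ := by
    intro hCt
    apply hρ1
    apply center_one h
    intro g
    have : g ∈ C := by rw [hCt]; trivial
    exact (hmemC g).mp this
  haveI hCs : Group.IsSolvable C := h.prop C hCne
  have hcore : pPrimeCore r C = ⊥ :=
    F1 h ρ hρ1 ⟨1, by rw [pow_one, ← hρo, pow_orderOf_eq_one]⟩
  set W := pCore r C with hW
  have hWp : IsPGroup r W := pCore_isPGroup r
  have hWn : W.Normal := pCore_normal r C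
  have hWc : Subgroup.centralizer (W : Set C) ≤ W :=
    centralizer_pCore_le isPSolvable_of_solvable hcore
  let ρ' : C := ⟨ρ, (hmemC ρ).mpr rfl⟩
  let y' : C := ⟨y, (hmemC y).mpr hyρ⟩
  have hρc : ∀ x : C, x * ρ' = ρ' * x := fun x => Subtype.ext ((hmemC _).mp x.2)
  have hρ'1 : ρ' ≠ 1 := fun h0 => hρ1 (congrArg Subtype.val h0)
  have hρ'W : ρ' ∈ W := by
    have hZn : (Subgroup.zpowers ρ').Normal := by
      constructor
      intro n hn g
      obtain ⟨i, rfl⟩ := Subgroup.mem_zpowers_iff.mp hn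
      have h1 : Commute g (ρ' ^ i) := (show Commute g ρ' from hρc g).zpow_right i
      have h2 : g * ρ' ^ i * g⁻¹ = ρ' ^ i := by rw [h1.eq]; group
      rw [h2]
      exact Subgroup.zpow_mem _ (Subgroup.mem_zpowers _) _
    have hρ'o : orderOf ρ' = r ^ 1 := by rw [Subgroup.orderOf_mk, hρo, pow_one]
    have hZp : IsPGroup r (Subgroup.zpowers ρ') := isPGroup_zpowers hρ'o
    exact le_pCore hZn hZp (Subgroup.mem_zpowers ρ')
  haveI hWcyc : IsCyclic W := by
    haveI h1 := hcyc (W.map C.subtype) (hWp.map C.subtype)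
    exact isCyclic_of_injective
      (Subgroup.equivMapOfInjective W C.subtype C.subtype_injective).toMonoidHom
      (MulEquiv.injective _)
  obtain ⟨w₀, hw₀⟩ := IsCyclic.exists_generator (α := W)
  set w : C := (w₀ : C) with hw
  have hwW : w ∈ W := w₀.2
  have hWgen : ∀ x ∈ W, x ∈ Subgroup.zpowers w := by
    intro x hx
    obtain ⟨i, hi⟩ := Subgroup.mem_zpowers_iff.mp (hw₀ ⟨x, hx⟩)
    exact Subgroup.mem_zpowers_iff.mpr ⟨i, by simpa using congrArg Subtype.val hi⟩
  have hy'2 : y' ^ 2 = 1 := Subtype.ext (by simpa [y'] using hy2)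
  have hy'1 : y' ≠ 1 := fun h0 => hy1 (congrArg Subtype.val h0)
  -- the order of `w`
  have hw1 : w ≠ 1 := by
    intro h0
    have h1 := hWgen _ hρ'W
    rw [h0, Subgroup.zpowers_one_eq_bot, Subgroup.mem_bot] at h1
    exact hρ'1 h1
  obtain ⟨n, hwo⟩ : ∃ n, orderOf w = r ^ (n + 1) := by
    obtain ⟨m, hm⟩ := hWp ⟨w, hwW⟩
    have hm' : w ^ r ^ m = 1 := by simpa using congrArg Subtype.val hm
    obtain ⟨i, -, hi⟩ := (Nat.dvd_prime_pow hr.out).mp (orderOf_dvd_of_pow_eq_one hm')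
    have hi0 : i ≠ 0 := by
      rintro rfl
      rw [pow_zero, orderOf_eq_one_iff] at hi
      exact hw1 hi
    exact ⟨i - 1, by rw [hi]; congr 1; omega⟩
  set w₁ : C := y' * w * y'⁻¹ with hw₁
  have hw₁W : w₁ ∈ W := hWn.conj_mem _ hwW _
  set i₀ : C := w * w₁⁻¹ with hi₀
  have hi₀W : i₀ ∈ W := W.mul_mem hwW (W.inv_mem hw₁W)
  have hinv : y' * i₀ * y'⁻¹ = i₀⁻¹ := by
    have h1 : y' * w₁ * y'⁻¹ = w := by
      have h0 : y' * y' = 1 := by rw [← pow_two]; exact hy'2
      calc y' * w₁ * y'⁻¹ = (y' * y') * w * (y' * y')⁻¹ := by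
            rw [hw₁]
            simp only [mul_inv_rev, mul_assoc]
        _ = w := by rw [h0]; group
    calc y' * i₀ * y'⁻¹ = (y' * w * y'⁻¹) * (y' * w₁ * y'⁻¹)⁻¹ := by rw [hi₀]; group
      _ = w₁ * w⁻¹ := by rw [h1]
      _ = i₀⁻¹ := by rw [hi₀, mul_inv_rev, inv_inv]
  have hi₀1 : i₀ = 1 := by
    by_contra hne
    set e : C := w ^ r ^ n with he
    have he1 : e ∈ Subgroup.zpowers i₀ := top_pow_mem_zpowers hwo (hWgen _ hi₀W) hne
    have he2 : e ∈ Subgroup.zpowers ρ' := top_pow_mem_zpowers hwo (hWgen _ hρ'W) hρ'1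
    have hecent : y' * e = e * y' := by
      obtain ⟨k, hk⟩ := Subgroup.mem_zpowers_iff.mp he2
      rw [← hk]
      exact ((show Commute y' ρ' from hρc y').zpow_right k).eq
    have heinv : y' * e * y'⁻¹ = e⁻¹ := by
      obtain ⟨k, hk⟩ := Subgroup.mem_zpowers_iff.mp he1
      rw [← hk, ← MulAut.conj_apply, map_zpow, MulAut.conj_apply, hinv, inv_zpow]
    have h1 : y' * e * y'⁻¹ = e := by rw [hecent]; group
    rw [h1] at heinv
    have he22 : e * e = 1 := by
      have h2 : e * e = e⁻¹ * e := congrArg (· * e) heinv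
      rw [h2, inv_mul_cancel]
    have hero : orderOf e = r := by
      rw [he, orderOf_pow_of_dvd (pow_ne_zero _ hr.out.ne_zero) ⟨r, by rw [hwo, pow_succ]⟩, hwo,
        pow_succ, Nat.mul_div_cancel_left _ (pow_pos hr.out.pos _)]
    have h3 : orderOf e ∣ 2 := orderOf_dvd_of_pow_eq_one (by rw [pow_two]; exact he22)
    rw [hero] at h3
    exact hr2 ((Nat.prime_dvd_prime_iff_eq hr.out Nat.prime_two).mp h3)
  have hyw : y' * w = w * y' := by
    have h1 : w = w₁ := by
      rwa [hi₀, mul_inv_eq_one] at hi₀1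
    have h2 : y' * w * y'⁻¹ = w := h1.symm
    calc y' * w = (y' * w * y'⁻¹) * y' := by group
      _ = w * y' := by rw [h2]
  have hyc : y' ∈ Subgroup.centralizer (W : Set C) := by
    rw [Subgroup.mem_centralizer_iff]
    intro x hx
    obtain ⟨k, hk⟩ := Subgroup.mem_zpowers_iff.mp (hWgen x hx)
    rw [← hk]
    exact ((show Commute w y' from hyw.symm).zpow_left k).eq
  have hyW := hWc hyc
  obtain ⟨m, hm⟩ := hWp ⟨y', hyW⟩
  have hm' : y' ^ r ^ m = 1 := by simpa using congrArg Subtype.val hm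
  have h4 : orderOf y' ∣ r ^ m := orderOf_dvd_of_pow_eq_one hm'
  have h5 : orderOf y' ∣ 2 := orderOf_dvd_of_pow_eq_one hy'2
  have h6 : (r ^ m).Coprime 2 :=
    Nat.Coprime.pow_left _ ((Nat.coprime_primes hr.out Nat.prime_two).mpr hr2)
  exact hy'1 (orderOf_eq_one_iff.mp (Nat.eq_one_of_dvd_coprimes h6 h4 h5))

/-- The case when `r`-subgroups are cyclic. -/
theorem caseAlpha (h : Ctx G) {r : ℕ} [hr : Fact r.Prime] (hr2 : r ≠ 2) (hrG : r ∣ Nat.card G)
    (h2G : 2 ∣ Nat.card G) (hcyc : ∀ R : Subgroup G, IsPGroup r R → IsCyclic R) : False := by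
  classical
  haveI := h.simple
  obtain ⟨t, b, hto, hexp⟩ := exists_top (p := 2) (G := G) h2G
  have hvo : orderOf (t ^ 2 ^ b) = 2 := by
    rw [orderOf_pow_of_dvd (pow_ne_zero _ two_ne_zero) ⟨2, by rw [hto, pow_succ]⟩, hto, pow_succ,
      Nat.mul_div_cancel_left _ (pow_pos two_pos _)]
  set v := t ^ 2 ^ b with hv
  have hv1 : v ≠ 1 := by
    intro h0
    rw [h0, orderOf_one] at hvo
    omega
  have hv2 : v ^ 2 = 1 := by
    have h0 := pow_orderOf_eq_one v
    rwa [hvo] at h0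
  by_cases hζ : ∃ ζ : G, orderOf ζ = 2 ∧ v * ζ = ζ * v ∧ ζ ≠ v
  · obtain ⟨ζ, hζo, hc, hne⟩ := hζ
    have hζ1 : ζ ≠ 1 := by
      intro h0
      rw [h0, orderOf_one] at hζo
      omega
    have hζ2 : ζ ^ 2 = 1 := by
      have h0 := pow_orderOf_eq_one ζ
      rwa [hζo] at h0
    have hζv : ζ ∉ Subgroup.zpowers v := by
      intro hm
      obtain ⟨i, hi⟩ := Subgroup.mem_zpowers_iff.mp hm
      rw [← zpow_mod_orderOf, hvo] at hi
      rcases Int.emod_two_eq i with h1 | h1
      · rw [show ((2 : ℕ) : ℤ) = 2 from rfl, h1, zpow_zero] at hi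
        exact hζ1 hi.symm
      · rw [show ((2 : ℕ) : ℤ) = 2 from rfl, h1, zpow_one] at hi
        exact hne hi.symm
    have hpr : (2 : ℕ) ≠ r := fun h0 => hr2 h0.symm
    refine final_contra h hpr hrG b hexp t ⟨b + 1, by rw [← hto, pow_orderOf_eq_one]⟩ hvo ζ hζo hc hζv
      (Or.inr ?_) ?_
    · intro R hR
      haveI := hcyc R hR
      exact IsCyclic.isMulCommutative
    · intro y hy hyv c hcy
      have hyp : y ^ 2 = 1 := pow_eq_one_of_form hc hv2 hζ2 hy
      have hy1 : y ≠ 1 := fun h0 => hyv (h0 ▸ Subgroup.one_mem _)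
      have hnr := no_r_centralizer h hr2 hcyc y hy1 hyp
      have hvy : v * y = y * v := commute_of_form hc rfl hc hy
      have hcomm : ⁅c, v⁆ ∈ Subgroup.centralizer ({y} : Set G) := by
        have hcC : c ∈ Subgroup.centralizer ({y} : Set G) :=
          Subgroup.mem_centralizer_singleton_iff.mpr hcy
        have hvC : v ∈ Subgroup.centralizer ({y} : Set G) :=
          Subgroup.mem_centralizer_singleton_iff.mpr hvy
        rw [commutatorElement_def]
        exact Subgroup.mul_mem _ (Subgroup.mul_mem _ (Subgroup.mul_mem _ hcC hvC)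
          (Subgroup.inv_mem _ hcC)) (Subgroup.inv_mem _ hvC)
      have h1 : orderOf ⁅c, v⁆ ∣ Nat.card (Subgroup.centralizer ({y} : Set G)) := by
        have h2 := orderOf_dvd_natCard (⟨_, hcomm⟩ : Subgroup.centralizer ({y} : Set G))
        rwa [Subgroup.orderOf_mk] at h2
      exact Nat.Coprime.coprime_dvd_left h1
        ((Nat.Prime.coprime_iff_not_dvd hr.out).mpr hnr).symm
  · push Not at hζ
    -- no involution other than `v` commutes with `v`
    have hvp : IsPGroup 2 (Subgroup.zpowers v) := isPGroup_zpowers (b := 1) (by rw [hvo, pow_one])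
    obtain ⟨P, hP⟩ : ∃ P : Sylow 2 G, Subgroup.zpowers v ≤ P := IsPGroup.exists_le_sylow hvp
    have hvP : v ∈ (P : Subgroup G) := hP (Subgroup.mem_zpowers v)
    have hPp : IsPGroup 2 ↥(P : Subgroup G) := P.isPGroup'
    have hvcen : ∀ x : ↥(P : Subgroup G), (x : G) * v = v * x := by
      -- the center of `P`
      have hnebot : (⊤ : Subgroup ↥(P : Subgroup G)) ≠ ⊥ := by
        intro h0
        have h1 : (⟨v, hvP⟩ : ↥(P : Subgroup G)) ∈ (⊤ : Subgroup ↥(P : Subgroup G)) := trivial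
        rw [h0, Subgroup.mem_bot] at h1
        exact hv1 (congrArg Subtype.val h1)
      have h1 := Cfsg.Agent.Lib.PGroup.Basic.inf_center_ne_bot hPp
        (N := (⊤ : Subgroup ↥(P : Subgroup G))) hnebot
      rcases Subgroup.bot_or_exists_ne_one ((⊤ : Subgroup ↥(P : Subgroup G)) ⊓
          Subgroup.center ↥(P : Subgroup G)) with h2 | ⟨z, hz, hz1⟩
      · exact absurd h2 h1
      obtain ⟨-, hzc⟩ := Subgroup.mem_inf.mp hz
      obtain ⟨m, hm⟩ := hPp z
      obtain ⟨i, -, hi⟩ := (Nat.dvd_prime_pow Nat.prime_two).mp (orderOf_dvd_of_pow_eq_one hm)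
      have hi0 : i ≠ 0 := by
        rintro rfl
        rw [pow_zero, orderOf_eq_one_iff] at hi
        exact hz1 hi
      obtain ⟨k, rfl⟩ : ∃ k, i = k + 1 := ⟨i - 1, by omega⟩
      set z₀ : ↥(P : Subgroup G) := z ^ 2 ^ k with hz₀
      have hz₀o : orderOf z₀ = 2 := by
        rw [hz₀, orderOf_pow_of_dvd (pow_ne_zero _ two_ne_zero) ⟨2, by rw [hi, pow_succ]⟩, hi, pow_succ,
          Nat.mul_div_cancel_left _ (pow_pos two_pos _)]
      have hz₀c : ∀ x : ↥(P : Subgroup G), x * z₀ = z₀ * x := by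
        intro x
        exact ((show Commute x z from (Subgroup.mem_center_iff.mp hzc) x).pow_right _).eq
      have hz₀G : orderOf (z₀ : G) = 2 := by rw [Subgroup.orderOf_coe]; exact hz₀o
      have h3 : v * (z₀ : G) = z₀ * v := by
        have h4 := congrArg Subtype.val (hz₀c ⟨v, hvP⟩)
        simpa using h4
      have h4 : (z₀ : G) = v := hζ z₀ hz₀G h3
      intro x
      rw [← h4]
      have h5 := congrArg Subtype.val (hz₀c x)
      simpa using h5
    have hiso : ∀ g : G, g * v * g⁻¹ ∈ (P : Subgroup G) → g * v * g⁻¹ = v := by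
      intro g hg
      have h1 := hvcen ⟨_, hg⟩
      simp only at h1
      -- conjugating by `g⁻¹`
      have h2 : orderOf (g⁻¹ * v * g) = 2 := by
        have h3 := MulEquiv.orderOf_eq (MulAut.conj g⁻¹) v
        rw [hvo] at h3
        simpa [MulAut.conj_apply] using h3
      have h3 : v * (g⁻¹ * v * g) = (g⁻¹ * v * g) * v := by
        have h4 : g⁻¹ * (g * v * g⁻¹ * v) * g = g⁻¹ * (v * (g * v * g⁻¹)) * g := by rw [h1]
        calc v * (g⁻¹ * v * g) = g⁻¹ * (g * v * g⁻¹ * v) * g := by group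
          _ = g⁻¹ * (v * (g * v * g⁻¹)) * g := h4
          _ = (g⁻¹ * v * g) * v := by group
      have h4 := hζ _ h2 h3
      calc g * v * g⁻¹ = g * (g⁻¹ * v * g) * g⁻¹ := by rw [h4]
        _ = v := by group
    obtain ⟨N, hNn, hNo, hNc⟩ := Cfsg.Agent.S0215.result P v hvo hvP hiso
    rcases IsSimpleGroup.eq_bot_or_eq_top_of_normal N hNn with h1 | h1
    · apply hv1
      apply center_one h
      intro g
      have h2 := hNc g
      rw [h1, Subgroup.mem_bot] at h2
      have h3 : v * g * v⁻¹ = g := by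
        rwa [mul_inv_eq_one] at h2
      calc g * v = (v * g * v⁻¹) * v := by rw [h3]
        _ = v * g := by group
    · rw [h1, Subgroup.card_top] at hNo
      obtain ⟨k, hk⟩ := hNo
      obtain ⟨m, hm⟩ := h2G
      omega

end Cfsg.Agent.Lib.TwoGen.Alpha
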