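import Mathlib
import Cfsg.Prelude.Def_Local
import Cfsg.Agent.Lib.TwoGen.Alpha
import Cfsg.Agent.Lib.Char.Burnside2
import Cfsg.Agent.S0205

/-!
# A finite group in which any two elements generate a solvable subgroup is solvable
-/

set_option autoImplicit false
set_option linter.unusedSectionVars false
set_option linter.style.haveILetI false

universe u

namespace Cfsg.Agent.Lib.TwoGen.Main

open Cfsg Cfsg.Agent.Lib.TwoGen.Setup Cfsg.Agent.Lib.TwoGen.Beta Cfsg.Agent.Lib.TwoGen.Alpha

theorem main_simple {G : Type u} [Group G] [Finite G] (h : Ctx G) : False := by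
  classical
  have hne : Nat.card G ≠ 0 := Nat.card_pos.ne'
  have h2G : 2 ∣ Nat.card G := by
    by_contra hodd
    have h1 : Odd (Nat.card G) := by
      rwa [← Nat.not_even_iff_odd, even_iff_two_dvd]
    exact h.nonsol (Cfsg.Agent.S0205.result h1)
  -- an odd prime divisor
  have hq : ∃ q : ℕ, q.Prime ∧ q ≠ 2 ∧ q ∣ Nat.card G := by
    by_contra hno
    push Not at hno
    have h1 : Nat.card G = 2 ^ (Nat.card G).primeFactorsList.length :=
      Nat.eq_prime_pow_of_unique_prime_dvd hne (fun {d} hd hdd => by
        by_contra hd2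
        exact hno d hd hd2 hdd)
    have h2 : IsPGroup 2 G := IsPGroup.of_card h1
    haveI := h2.isNilpotent
    apply h.nonsol
    infer_instance
  obtain ⟨q, hqp, hq2, hqG⟩ := hq
  -- a second odd prime divisor
  have hr : ∃ r : ℕ, r.Prime ∧ r ≠ 2 ∧ r ≠ q ∧ r ∣ Nat.card G := by
    by_contra hno
    push Not at hno
    obtain ⟨a, m, hm, hn⟩ := Nat.exists_eq_two_pow_mul_odd hne
    have hm0 : m ≠ 0 := by
      rintro rfl
      simp at hm
    have h1 : m = q ^ m.primeFactorsList.length :=
      Nat.eq_prime_pow_of_unique_prime_dvd hm0 (fun {d} hd hdd => by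
        by_contra hdq
        have hd2 : d ≠ 2 := by
          rintro rfl
          exact (Nat.not_even_iff_odd.mpr hm) (even_iff_two_dvd.mpr hdd)
        exact hno d hd hd2 hdq (hn ▸ Dvd.dvd.mul_left hdd _))
    apply h.nonsol
    refine Cfsg.Agent.Lib.Char.Burnside2.isSolvable_of_card_eq Nat.prime_two hqp (Nat.card G) G a
      m.primeFactorsList.length rfl ?_
    rw [← h1]
    exact hn
  obtain ⟨r, hrp, hr2, hrq, hrG⟩ := hr
  by_cases hβ : ∃ (p : ℕ) (_ : Fact p.Prime), p ≠ 2 ∧ p ∣ Nat.card G ∧ ∀ P : Sylow p G, ¬ IsCyclic P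
  · obtain ⟨p, hp, hp2, hpG, hnc⟩ := hβ
    by_cases hpq : p = q
    · haveI : Fact r.Prime := ⟨hrp⟩
      exact caseBeta h (r := r) (by rw [hpq]; exact hrq.symm) hp2 hr2 hrG hpG hnc
    · haveI : Fact q.Prime := ⟨hqp⟩
      exact caseBeta h (r := q) hpq hp2 hq2 hqG hpG hnc
  · push Not at hβ
    haveI hqf : Fact q.Prime := ⟨hqp⟩
    obtain ⟨P, hP⟩ := hβ q hqf hq2 hqG
    refine caseAlpha h (r := q) hq2 hqG h2G ?_
    intro R hR
    obtain ⟨Q, hQ⟩ : ∃ Q : Sylow q G, R ≤ Q := hR.exists_le_sylow
    haveI hQc : IsCyclic ↥(Q : Subgroup G) :=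
      isCyclic_of_surjective (Sylow.equiv P Q).toMonoidHom (Sylow.equiv P Q).surjective
    exact isCyclic_of_injective (Subgroup.inclusion hQ) (Subgroup.inclusion_injective hQ)

theorem inherit_sub {G : Type u} [Group G]
    (h : ∀ a b : G, Group.IsSolvable (Subgroup.closure ({a, b} : Set G))) (H : Subgroup G) :
    ∀ a b : H, Group.IsSolvable (Subgroup.closure ({a, b} : Set H)) := by
  intro a b
  haveI := h a b
  have hle : Subgroup.closure ({a, b} : Set H) ≤
      (Subgroup.closure ({(a : G), (b : G)} : Set G)).comap H.subtype := by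
    rw [Subgroup.closure_le]
    intro x hx
    simp only [Set.mem_insert_iff, Set.mem_singleton_iff] at hx
    rcases hx with rfl | rfl
    · exact Subgroup.subset_closure (by simp)
    · exact Subgroup.subset_closure (by simp)
  let f : ↥(Subgroup.closure ({a, b} : Set H)) →* ↥(Subgroup.closure ({(a : G), (b : G)} : Set G)) :=
    (H.subtype.comp (Subgroup.closure ({a, b} : Set H)).subtype).codRestrict _
      (fun x => hle x.2)
  have hf : Function.Injective f := by
    intro x y hxy
    apply Subtype.ext
    apply Subtype.ext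
    have h1 := congrArg Subtype.val hxy
    exact h1
  exact Group.isSolvable_of_isSolvable_injective hf

theorem inherit_quot {G : Type u} [Group G]
    (h : ∀ a b : G, Group.IsSolvable (Subgroup.closure ({a, b} : Set G))) (N : Subgroup G)
    [N.Normal] : ∀ a b : G ⧸ N, Group.IsSolvable (Subgroup.closure ({a, b} : Set (G ⧸ N))) := by
  intro a b
  obtain ⟨a₀, rfl⟩ := QuotientGroup.mk'_surjective N a
  obtain ⟨b₀, rfl⟩ := QuotientGroup.mk'_surjective N b
  haveI := h a₀ b₀
  have hmap : (Subgroup.closure ({a₀, b₀} : Set G)).map (QuotientGroup.mk' N) =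
      Subgroup.closure ({QuotientGroup.mk' N a₀, QuotientGroup.mk' N b₀} : Set (G ⧸ N)) := by
    rw [MonoidHom.map_closure, Set.image_pair]
  rw [← hmap]
  exact Group.isSolvable_of_surjective (f := (QuotientGroup.mk' N).subgroupMap _)
    ((QuotientGroup.mk' N).subgroupMap_surjective _)

theorem main_aux : ∀ (n : ℕ) (G : Type u) [Group G] [Finite G], Nat.card G = n →
    (∀ a b : G, Group.IsSolvable (Subgroup.closure ({a, b} : Set G))) → Group.IsSolvable G := by
  intro n
  induction n using Nat.strong_induction_on with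
  | _ n ih =>
    intro G _ _ hn hG
    by_contra hnon
    have hnt : Nontrivial G := by
      by_contra hsub
      rw [not_nontrivial_iff_subsingleton] at hsub
      exact hnon inferInstance
    have hprop : ∀ H : Subgroup G, H ≠ ⊤ → Group.IsSolvable H := by
      intro H hH
      have hlt : Nat.card H < n := by
        rw [← hn]
        apply Nat.lt_of_le_of_ne (Nat.le_of_dvd Nat.card_pos (Subgroup.card_subgroup_dvd_card H))
        intro heq
        apply hH
        exact (Subgroup.card_eq_iff_eq_top H).mp heq
      exact ih _ hlt H rfl (inherit_sub hG H)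
    have hsimple : IsSimpleGroup G := by
      refine ⟨?_⟩
      intro N hN
      by_contra hNn
      push Not at hNn
      obtain ⟨hN1, hN2⟩ := hNn
      haveI := hN
      have hNs := hprop N hN2
      have hcard : Nat.card (G ⧸ N) * Nat.card N = Nat.card G := by
        rw [mul_comm]
        exact (Subgroup.card_mul_index N).symm ▸ rfl
      have hN3 : 1 < Nat.card N := by
        have h1 : Nat.card N ≠ 1 := by
          intro h0
          exact hN1 ((Subgroup.card_eq_one).mp h0)
        have h2 : 0 < Nat.card N := Nat.card_pos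
        omega
      have hQ1 : 0 < Nat.card (G ⧸ N) := Nat.card_pos
      have hlt : Nat.card (G ⧸ N) < n := by
        rw [← hn, ← hcard]
        nlinarith
      haveI hQs : Group.IsSolvable (G ⧸ N) := ih _ hlt (G ⧸ N) rfl (inherit_quot hG N)
      apply hnon
      exact Group.isSolvable_of_ker_le_range N.subtype (QuotientGroup.mk' N) (by simp)
    exact main_simple ⟨hG, hsimple, hnon, hprop⟩

end Cfsg.Agent.Lib.TwoGen.Main
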